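import Cfsg.Agent.Lib.Helper16.TSDSKEWh16

/-!
# Project TSD (S5980), row ORTHPAR (leader's second copy): an orthogonal matrix of odd order has even `rank (h - 1)`.
-/

set_option autoImplicit false
set_option linter.unusedVariables false

namespace Cfsg.Agent.Lib.helper4.TSD

open Matrix

variable {F : Type*} [Field F]

/-- `1 + u` is invertible when `u ^ r = 1`, `r` odd, `2 ≠ 0`. -/
theorem tsdorthpar4_det {b : ℕ} (h2 : (2 : F) ≠ 0) (u : Matrix (Fin b) (Fin b) F) (r : ℕ) (hr : Odd r)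
    (hur : u ^ r = 1) : (1 + u).det ≠ 0 := by
  have h1 : (1 - (-u)) * ∑ i ∈ Finset.range r, (-u) ^ i = 1 - (-u) ^ r := mul_neg_geom_sum (-u) r
  rw [hr.neg_pow, hur, sub_neg_eq_add, sub_neg_eq_add] at h1
  intro h0
  have h3 := congrArg Matrix.det h1
  rw [Matrix.det_mul, h0, zero_mul] at h3
  have h4 : ((1 : Matrix (Fin b) (Fin b) F) + 1) = (2 : F) • (1 : Matrix (Fin b) (Fin b) F) := by
    rw [two_smul]
  rw [h4, Matrix.det_smul, Matrix.det_one, mul_one] at h3
  exact pow_ne_zero _ h2 h3.symm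

theorem tsdorthpar4_parity (h2 : (2 : F) ≠ 0) {b : ℕ} (J : Matrix (Fin b) (Fin b) F) (hJ : Jᵀ = J)
    (hdet : J.det ≠ 0) (h : Matrix (Fin b) (Fin b) F) (hh : hᵀ * J * h = J) (r : ℕ) (hr : Odd r)
    (hhr : h ^ r = 1) : Even (h - 1).rank := by
  obtain ⟨k, hk⟩ := hr
  have hinv : h * h ^ (2 * k) = 1 := by rw [← pow_succ', ← hk, hhr]
  obtain ⟨g, hg⟩ : ∃ g, g = h ^ (2 * k) := ⟨_, rfl⟩
  rw [← hg] at hinv
  have hgr : g ^ r = 1 := by rw [hg, ← pow_mul, mul_comm, pow_mul, hhr, one_pow]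
  -- adjoint relations
  have e1 : hᵀ * J = J * g := by
    have : hᵀ * J * (h * g) = J * g := by rw [← Matrix.mul_assoc, hh]
    rwa [hinv, Matrix.mul_one] at this
  have e2 : gᵀ * J = J * h := by
    have := congrArg Matrix.transpose e1
    rw [Matrix.transpose_mul, Matrix.transpose_mul, Matrix.transpose_transpose, hJ] at this
    exact this.symm
  have hskew : (J * (h - g))ᵀ = -(J * (h - g)) := by
    rw [Matrix.transpose_mul, Matrix.transpose_sub, hJ, Matrix.sub_mul, e1, e2, Matrix.mul_sub]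
    abel
  have hev := tsdskew_h16_rank_even h2 (J * (h - g)) hskew
  have hfac : h - g = (h - 1) * (1 + g) := by
    rw [Matrix.sub_mul, Matrix.mul_add, Matrix.mul_one, hinv, Matrix.one_mul]
    abel
  have hd : (1 + g).det ≠ 0 := tsdorthpar4_det h2 g r ⟨k, hk⟩ hgr
  rw [Matrix.rank_mul_eq_right_of_det_ne_zero _ _ hdet, hfac,
    Matrix.rank_mul_eq_left_of_det_ne_zero _ _ hd] at hev
  exact hev

end Cfsg.Agent.Lib.helper4.TSD
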