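import Cfsg.Agent.Lib.helper4.TSD.Defs
import Cfsg.Agent.Lib.helper6.Symp
import Cfsg.Agent.S5646
import Cfsg.Agent.S0767

/-!
# Project TSD (S5980), row CHAR (leader's second copy): `r = p`, a symplectic transvection.
-/

set_option autoImplicit false
set_option linter.unusedVariables false

namespace Cfsg.Agent.Lib.helper4.TSD

open Matrix
open Cfsg.Agent.Lib.Helper22.TD

variable {F : Type*} [Field F]

theorem tsdchar4_pow {m : ℕ} (v : Fin m ⊕ Fin m → F) (c : F) (k : ℕ) :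
    (Cfsg.sympTransvection m v c) ^ k = Cfsg.sympTransvection m v ((k : F) * c) := by
  induction k with
  | zero => rw [pow_zero, Nat.cast_zero, zero_mul, Cfsg.Agent.S5646.ts_zero]
  | succ k ih =>
    rw [pow_succ, ih, (Cfsg.Agent.S0767.result m v).1]
    congr 1
    push_cast
    ring

/-- CHAR (second copy; exact statement of `tsd_case_char`). -/
theorem tsdchar4_case_char {p : ℕ} [Fact p.Prime] [CharP F p] (d : ℕ) (hd : 1 ≤ d) (a b : ℕ) (ha2 : 2 ≤ a)
    (hb : 3 ≤ b) (e : (Fin d ⊕ Fin d) ≃ Fin a × Fin b) (P : GL (Fin d ⊕ Fin d) F)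
    (hall : TsdAll d a b e P p) : False := by
  obtain ⟨v, hv⟩ : ∃ v : Fin d ⊕ Fin d → F, v = Pi.single (Sum.inl ⟨0, hd⟩) 1 := ⟨_, rfl⟩
  have hv0 : v ≠ 0 := by
    rw [hv]
    intro h
    have := congrFun h (Sum.inl ⟨0, hd⟩)
    simp at this
  obtain ⟨x, hxM, hxmem⟩ := Cfsg.Agent.S5646.tsGL v (1 : F)
  obtain ⟨y, hy⟩ := Cfsg.Agent.Lib.helper6.sympForm_nondeg (m := d) v hv0
  have hy' : Cfsg.sympForm d F y v ≠ 0 := by
    rw [Cfsg.Agent.Lib.helper6.sympForm_swap]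
    exact neg_ne_zero.mpr hy
  have hx1 : (x : Matrix (Fin d ⊕ Fin d) (Fin d ⊕ Fin d) F) ≠ 1 := by
    intro h
    have h3 := Cfsg.Agent.S5646.ts_apply x v 1 hxM y
    rw [h, Matrix.one_mulVec] at h3
    have h4 : (1 * Cfsg.sympForm d F y v) • v = (y + (1 * Cfsg.sympForm d F y v) • v) - y :=
      (add_sub_cancel_left y _).symm
    rw [← h3, sub_self] at h4
    rcases smul_eq_zero.mp h4 with h5 | h5
    · rw [one_mul] at h5
      exact hy' h5
    · exact hv0 h5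
  -- rank (x - 1) ≤ 1
  have hrk : ((x : Matrix (Fin d ⊕ Fin d) (Fin d ⊕ Fin d) F) -
      (1 : F) • (1 : Matrix (Fin d ⊕ Fin d) (Fin d ⊕ Fin d) F)).rank ≤ 1 := by
    rw [hxM, one_smul]
    unfold Cfsg.sympTransvection
    rw [add_sub_cancel_left, one_smul]
    exact Matrix.rank_vecMulVec_le _ _
  -- x ^ p = 1
  have hxp : ((x ^ p : GL (Fin d ⊕ Fin d) F) : Matrix (Fin d ⊕ Fin d) (Fin d ⊕ Fin d) F) =
      (1 : F) • (1 : Matrix (Fin d ⊕ Fin d) (Fin d ⊕ Fin d) F) := by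
    rw [Units.val_pow_eq_pow_val, hxM, tsdchar4_pow, CharP.cast_eq_zero F p, zero_mul,
      Cfsg.Agent.S5646.ts_zero, one_smul]
  -- non-scalar
  have hns : ∀ z : F, (x : Matrix (Fin d ⊕ Fin d) (Fin d ⊕ Fin d) F) ≠
      z • (1 : Matrix (Fin d ⊕ Fin d) (Fin d ⊕ Fin d) F) := by
    intro z hz
    by_cases hz1 : z = 1
    · rw [hz1, one_smul] at hz
      exact hx1 hz
    · -- (z - 1) • 1 has full rank
      have h5 : (x : Matrix (Fin d ⊕ Fin d) (Fin d ⊕ Fin d) F) -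
          (1 : F) • (1 : Matrix (Fin d ⊕ Fin d) (Fin d ⊕ Fin d) F) =
          (z - 1) • (1 : Matrix (Fin d ⊕ Fin d) (Fin d ⊕ Fin d) F) := by
        rw [hz, sub_smul]
      rw [h5] at hrk
      have hunit : IsUnit ((z - 1) • (1 : Matrix (Fin d ⊕ Fin d) (Fin d ⊕ Fin d) F)) := by
        rw [Matrix.isUnit_iff_isUnit_det, Matrix.det_smul, Matrix.det_one, mul_one]
        exact (pow_ne_zero _ (sub_ne_zero.mpr hz1)).isUnit
      rw [Matrix.rank_of_isUnit _ hunit] at hrk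
      simp only [Fintype.card_sum, Fintype.card_fin] at hrk
      omega
  obtain ⟨h, hh⟩ := tsd_small (by omega) e P x (hall x hxmem ⟨1, hxp⟩ hns) 1 (by omega)
  have h1 := hh 1
  have hρ : (h - (1 : F) • (1 : Matrix (Fin b) (Fin b) F)).rank = 0 := by
    by_contra hne
    have : a * 1 ≤ a * (h - (1 : F) • (1 : Matrix (Fin b) (Fin b) F)).rank :=
      Nat.mul_le_mul_left _ (Nat.pos_of_ne_zero hne)
    omega
  rw [hρ, mul_zero] at h1
  have h0 := td_eq_zero_of_rank _ h1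
  rw [one_smul] at h0
  exact hx1 (sub_eq_zero.mp h0)

end Cfsg.Agent.Lib.helper4.TSD
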