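import Cfsg.Agent.Lib.Helper22.TD.Core

/-!
# Project TSD (S5980): elements of prime order of `PSp_{2d}(q)` and `Sp_a(q) ⊗ O_b(q)` — definitions and the small rank route

`tsd_small` is `Helper22.TD.td_shape_of_small_rank` for an arbitrary index type and an arbitrary conjugating element.
-/

set_option autoImplicit false
set_option linter.unusedVariables false
set_option linter.unusedSectionVars false

namespace Cfsg.Agent.Lib.helper4.TSD

open Matrix
open scoped Kronecker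
open Cfsg.Agent.Lib.Helper22.TD

variable {F : Type*} [Field F] {ι : Type} [Fintype ι] [DecidableEq ι]

/-- the hypothesis of the `only if` direction (the conjugating element is not required to be symplectic). -/
def TsdAll (d a b : ℕ) (e : (Fin d ⊕ Fin d) ≃ Fin a × Fin b) (P : GL (Fin d ⊕ Fin d) F) (r : ℕ) : Prop :=
  ∀ x ∈ Cfsg.spGL d F,
    (∃ z : F, ((x ^ r : GL (Fin d ⊕ Fin d) F) : Matrix (Fin d ⊕ Fin d) (Fin d ⊕ Fin d) F) =
      z • (1 : Matrix (Fin d ⊕ Fin d) (Fin d ⊕ Fin d) F)) →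
    (∀ z : F, (x : Matrix (Fin d ⊕ Fin d) (Fin d ⊕ Fin d) F) ≠
      z • (1 : Matrix (Fin d ⊕ Fin d) (Fin d ⊕ Fin d) F)) →
    ∃ g : GL (Fin d ⊕ Fin d) F, g⁻¹ * x * g ∈ Cfsg.Geo.tensorProductSubgroup a b e P

/-- a conjugate in the tensor product subgroup gives a Kronecker product conjugate to the reindexed element. -/
theorem tsd_transfer_gl {a b : ℕ} (e : ι ≃ Fin a × Fin b) (P x g : GL ι F)
    (hmem : g⁻¹ * x * g ∈ Cfsg.Geo.tensorProductSubgroup a b e P) :
    ∃ k ∈ Cfsg.Geo.kroneckerSubgroup a b F,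
      g⁻¹ * x * g = P * Cfsg.Geo.glReindex e.symm k * P⁻¹ ∧
      Cfsg.Geo.glReindex e x = Cfsg.Geo.glReindex e (g * P) * k * (Cfsg.Geo.glReindex e (g * P))⁻¹ := by
  obtain ⟨k, hk, hy⟩ := (td_mem_tps e P _).mp hmem
  refine ⟨k, hk, hy, ?_⟩
  have hx : x = (g * P) * Cfsg.Geo.glReindex e.symm k * (g * P)⁻¹ := by
    have : x = g * (g⁻¹ * x * g) * g⁻¹ := by group
    rw [this, hy]
    group
  conv_lhs => rw [hx]
  rw [map_mul, map_mul, td_glReindex_apply_symm, map_inv]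

/-- small rank route: if some `rank (x - l₀) < b` then the Kronecker conjugate is `1_a ⊗ h`. -/
theorem tsd_small {a b : ℕ} (ha : 1 ≤ a) (e : ι ≃ Fin a × Fin b) (P x : GL ι F)
    (hconj : ∃ g : GL ι F, g⁻¹ * x * g ∈ Cfsg.Geo.tensorProductSubgroup a b e P)
    (l₀ : F) (h0 : ((x : Matrix ι ι F) - l₀ • (1 : Matrix ι ι F)).rank < b) :
    ∃ h : Matrix (Fin b) (Fin b) F,
      ∀ l : F, ((x : Matrix ι ι F) - l • (1 : Matrix ι ι F)).rank =
        a * (h - l • (1 : Matrix (Fin b) (Fin b) F)).rank := by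
  obtain ⟨g, hg⟩ := hconj
  obtain ⟨k, ⟨α, β, hk⟩, -, hx⟩ := tsd_transfer_gl e P x g hg
  rw [td_inv_rank e x _ k hx l₀, hk] at h0
  obtain ⟨c, hc⟩ := td_left_scalar ha (α : Matrix (Fin a) (Fin a) F) (β : Matrix (Fin b) (Fin b) F)
    (td_gl_inj β) l₀ h0
  refine ⟨c • (β : Matrix (Fin b) (Fin b) F), fun l => ?_⟩
  rw [td_inv_rank e x _ k hx l, hk, hc, td_smul_one_kron, td_one_kron_sub, td_rank_one_kron]

end Cfsg.Agent.Lib.helper4.TSD
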