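import Cfsg.Agent.Lib.helper4.TSD.Defs
import Cfsg.Agent.Lib.helper6.SympBasis
import Cfsg.Agent.S5646

/-!
# Project TSD (S5980), row TWO (leader's second copy): `r = 2`, `a ≥ 4`.
-/

set_option autoImplicit false
set_option linter.unusedVariables false

namespace Cfsg.Agent.Lib.helper4.TSD

open Matrix
open Classical
open Cfsg.Agent.Lib.Helper22.TD

variable {F : Type*} [Field F]

/-- `-1` at `inl 0`, `inr 0`; `1` elsewhere. -/
noncomputable def tsdtwo4_D (d : ℕ) (hd : 1 ≤ d) : Fin d ⊕ Fin d → F :=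
  fun k => if k = Sum.inl ⟨0, hd⟩ ∨ k = Sum.inr ⟨0, hd⟩ then -1 else 1

theorem tsdtwo4_D_sq (d : ℕ) (hd : 1 ≤ d) (k : Fin d ⊕ Fin d) :
    tsdtwo4_D (F := F) d hd k * tsdtwo4_D d hd k = 1 := by
  unfold tsdtwo4_D
  split_ifs <;> ring

theorem tsdtwo4_D_pair (d : ℕ) (hd : 1 ≤ d) (i : Fin d) :
    tsdtwo4_D (F := F) d hd (Sum.inl i) * tsdtwo4_D d hd (Sum.inr i) = 1 := by
  unfold tsdtwo4_D
  by_cases h : i = ⟨0, hd⟩
  · subst h
    simp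
  · have h1 : ¬ ((Sum.inl i : Fin d ⊕ Fin d) = Sum.inl ⟨0, hd⟩ ∨
        (Sum.inl i : Fin d ⊕ Fin d) = Sum.inr ⟨0, hd⟩) := by simp [h]
    have h2 : ¬ ((Sum.inr i : Fin d ⊕ Fin d) = Sum.inl ⟨0, hd⟩ ∨
        (Sum.inr i : Fin d ⊕ Fin d) = Sum.inr ⟨0, hd⟩) := by simp [h]
    rw [if_neg h1, if_neg h2, one_mul]

theorem tsdtwo4_mul (d : ℕ) (hd : 1 ≤ d) :
    Matrix.diagonal (tsdtwo4_D (F := F) d hd) * Matrix.diagonal (tsdtwo4_D d hd) = 1 := by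
  rw [Matrix.diagonal_mul_diagonal]
  have : (fun i => tsdtwo4_D (F := F) d hd i * tsdtwo4_D d hd i) = fun _ => 1 :=
    funext (tsdtwo4_D_sq d hd)
  rw [this, Matrix.diagonal_one]

noncomputable def tsdtwo4_x (d : ℕ) (hd : 1 ≤ d) : GL (Fin d ⊕ Fin d) F :=
  ⟨Matrix.diagonal (tsdtwo4_D d hd), Matrix.diagonal (tsdtwo4_D d hd), tsdtwo4_mul d hd, tsdtwo4_mul d hd⟩

theorem tsdtwo4_x_coe (d : ℕ) (hd : 1 ≤ d) :
    ((tsdtwo4_x (F := F) d hd : GL (Fin d ⊕ Fin d) F) : Matrix (Fin d ⊕ Fin d) (Fin d ⊕ Fin d) F) =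
      Matrix.diagonal (tsdtwo4_D d hd) := rfl

theorem tsdtwo4_x_mem (d : ℕ) (hd : 1 ≤ d) : tsdtwo4_x (F := F) d hd ∈ Cfsg.spGL d F := by
  rw [Cfsg.Agent.S5646.mem_spGL_iff]
  intro u v
  rw [tsdtwo4_x_coe, Cfsg.Agent.Lib.helper6.SB.sympForm_eq_sum, Cfsg.Agent.Lib.helper6.SB.sympForm_eq_sum]
  apply Finset.sum_congr rfl
  intro i _
  rw [Matrix.mulVec_diagonal, Matrix.mulVec_diagonal, Matrix.mulVec_diagonal, Matrix.mulVec_diagonal]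
  have hp := tsdtwo4_D_pair (F := F) d hd i
  linear_combination (u (Sum.inr i) * v (Sum.inl i) - u (Sum.inl i) * v (Sum.inr i)) * hp

theorem tsdtwo4_rank (d : ℕ) (hd : 1 ≤ d) :
    (Matrix.diagonal (tsdtwo4_D (F := F) d hd) -
      (1 : F) • (1 : Matrix (Fin d ⊕ Fin d) (Fin d ⊕ Fin d) F)).rank ≤ 2 := by
  have hsub : Matrix.diagonal (tsdtwo4_D (F := F) d hd) -
      (1 : F) • (1 : Matrix (Fin d ⊕ Fin d) (Fin d ⊕ Fin d) F) =
      Matrix.diagonal (fun k => tsdtwo4_D (F := F) d hd k - 1) := by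
    ext i j
    by_cases h : i = j
    · subst h; simp
    · simp [h, Matrix.one_apply]
  rw [hsub, Matrix.rank_diagonal, Fintype.card_subtype]
  have hss : Finset.univ.filter (fun k => tsdtwo4_D (F := F) d hd k - 1 ≠ 0) ⊆
      {Sum.inl ⟨0, hd⟩, Sum.inr ⟨0, hd⟩} := by
    intro k hk
    rw [Finset.mem_filter] at hk
    by_contra hk'
    rw [Finset.mem_insert, Finset.mem_singleton] at hk'
    apply hk.2
    unfold tsdtwo4_D
    rw [if_neg hk', sub_self]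
  exact le_trans (Finset.card_le_card hss) Finset.card_le_two

/-- TWO (second copy; exact statement of `tsd_case_two`). -/
theorem tsdtwo4_case_two (h2 : (2 : F) ≠ 0) (d : ℕ) (hd : 2 ≤ d) (a b : ℕ) (ha4 : 4 ≤ a) (hb : 3 ≤ b)
    (e : (Fin d ⊕ Fin d) ≃ Fin a × Fin b) (P : GL (Fin d ⊕ Fin d) F) (hall : TsdAll d a b e P 2) : False := by
  have hd1 : 1 ≤ d := by omega
  have hxM := tsdtwo4_x_coe (F := F) d hd1
  have hx1 : ((tsdtwo4_x (F := F) d hd1 : GL (Fin d ⊕ Fin d) F) :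
      Matrix (Fin d ⊕ Fin d) (Fin d ⊕ Fin d) F) ≠ 1 := by
    intro h
    have e1 := congrFun (congrFun h (Sum.inl ⟨0, hd1⟩)) (Sum.inl ⟨0, hd1⟩)
    rw [hxM] at e1
    simp [tsdtwo4_D] at e1
    apply h2
    linear_combination (-1 : F) * e1
  have hns : ∀ z : F, ((tsdtwo4_x (F := F) d hd1 : GL (Fin d ⊕ Fin d) F) :
      Matrix (Fin d ⊕ Fin d) (Fin d ⊕ Fin d) F) ≠ z • (1 : Matrix (Fin d ⊕ Fin d) (Fin d ⊕ Fin d) F) := by
    intro z hz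
    have e1 := congrFun (congrFun hz (Sum.inl ⟨0, hd1⟩)) (Sum.inl ⟨0, hd1⟩)
    have e2 := congrFun (congrFun hz (Sum.inl ⟨1, hd⟩)) (Sum.inl ⟨1, hd⟩)
    rw [hxM] at e1 e2
    simp [tsdtwo4_D] at e1 e2
    apply h2
    linear_combination e2 - e1
  have hx2 : (((tsdtwo4_x (F := F) d hd1) ^ 2 : GL (Fin d ⊕ Fin d) F) :
      Matrix (Fin d ⊕ Fin d) (Fin d ⊕ Fin d) F) = (1 : F) • (1 : Matrix (Fin d ⊕ Fin d) (Fin d ⊕ Fin d) F) := by
    rw [Units.val_pow_eq_pow_val, hxM, pow_two, tsdtwo4_mul, one_smul]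
  have hrk := tsdtwo4_rank (F := F) d hd1
  rw [← hxM] at hrk
  obtain ⟨h, hh⟩ := tsd_small (by omega) e P (tsdtwo4_x (F := F) d hd1)
    (hall _ (tsdtwo4_x_mem d hd1) ⟨1, hx2⟩ hns) 1 (by omega)
  have h1 := hh 1
  have hρ : (h - (1 : F) • (1 : Matrix (Fin b) (Fin b) F)).rank = 0 := by
    by_contra hne
    have : a * 1 ≤ a * (h - (1 : F) • (1 : Matrix (Fin b) (Fin b) F)).rank :=
      Nat.mul_le_mul_left _ (Nat.pos_of_ne_zero hne)
    omega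
  rw [hρ, mul_zero] at h1
  have h0 := td_eq_zero_of_rank _ h1
  rw [one_smul] at h0
  exact hx1 (sub_eq_zero.mp h0)

end Cfsg.Agent.Lib.helper4.TSD
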