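import Cfsg.Agent.Lib.helper4.TSD.Model
import Cfsg.Agent.Lib.helper4.TSD.Two4
import Cfsg.Agent.Lib.helper4.TSD.Char4
import Cfsg.Agent.Lib.Helper27.TSDTPOS
import Cfsg.Agent.Lib.Helper1.TSDCNEG
import Cfsg.Agent.Lib.Helper27.TSDCPOS
import Cfsg.Agent.Lib.Lead.TSDEXODDlead
import Cfsg.Agent.Lib.Helper28.Transport
import Cfsg.Agent.S5646
import Cfsg.Agent.Lib.Helper9.TSTRISO
import Cfsg.Agent.Lib.helper3.TSTRCTX
import Cfsg.Agent.Lib.helper3.TSTRPSI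

/-!
# Project TSD (S5980): transfer and MAIN
-/

set_option autoImplicit false
set_option linter.unusedVariables false
set_option linter.unusedSectionVars false

namespace Cfsg.Agent.Lib.helper4.TSD

open Matrix
open scoped Kronecker
open Cfsg.Agent.Lib.Helper22.TD
open Cfsg.Agent.Lib.Helper21.TS
open Cfsg.Agent.Lib.helper7.TP

variable {F : Type*} [Field F]

/-- a scalar symplectic matrix is `± 1`. -/
theorem tsdmain_scalar_sq {d : ℕ} (hd : 1 ≤ d) (x : GL (Fin d ⊕ Fin d) F) (hx : x ∈ Cfsg.spGL d F) (z : F)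
    (hz : (x : Matrix (Fin d ⊕ Fin d) (Fin d ⊕ Fin d) F) = z • (1 : Matrix (Fin d ⊕ Fin d) (Fin d ⊕ Fin d) F)) :
    z * z = 1 := by
  rw [Cfsg.Agent.S5646.mem_spGL_iff] at hx
  have hu : (Pi.single (Sum.inl ⟨0, hd⟩) 1 : Fin d ⊕ Fin d → F) ≠ 0 := by
    intro h
    have := congrFun h (Sum.inl ⟨0, hd⟩)
    simp at this
  obtain ⟨v, hv⟩ := Cfsg.Agent.Lib.helper6.sympForm_nondeg (m := d) (Pi.single (Sum.inl ⟨0, hd⟩) 1) hu
  have h1 := hx (Pi.single (Sum.inl ⟨0, hd⟩) 1) v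
  rw [hz, Matrix.smul_mulVec, Matrix.one_mulVec, Matrix.smul_mulVec, Matrix.one_mulVec,
    Cfsg.Agent.Lib.helper6.sympForm_smul_left, Cfsg.Agent.Lib.helper6.sympForm_smul_right] at h1
  have h3 : (z * z - 1) * Cfsg.sympForm d F (Pi.single (Sum.inl ⟨0, hd⟩) 1) v = 0 := by
    linear_combination h1
  rcases mul_eq_zero.mp h3 with h | h
  · linear_combination h
  · exact absurd h hv

/-- transfer: a symplectic conjugate in the tensor product subgroup gives a Kronecker product preserving `J1 ⊗ J2`. -/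
theorem tsd_transfer [Fintype F] (d a b : ℕ) (e : (Fin d ⊕ Fin d) ≃ Fin a × Fin b) (P : GL (Fin d ⊕ Fin d) F)
    (J1 : Matrix (Fin a) (Fin a) F) (J2 : Matrix (Fin b) (Fin b) F) {c : F} (hc : c ≠ 0)
    (hT : ∀ x y : Fin a × Fin b → F,
      Cfsg.sympForm d F ((P : Matrix (Fin d ⊕ Fin d) (Fin d ⊕ Fin d) F) *ᵥ (x ∘ e))
        ((P : Matrix (Fin d ⊕ Fin d) (Fin d ⊕ Fin d) F) *ᵥ (y ∘ e)) = c * bf (JV J1 J2) x y)
    (x g : GL (Fin d ⊕ Fin d) F) (hx : x ∈ Cfsg.spGL d F) (hg : g ∈ Cfsg.spGL d F)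
    (hmem : g⁻¹ * x * g ∈ Cfsg.Geo.tensorProductSubgroup a b e P) :
    ∃ (α : GL (Fin a) F) (β : GL (Fin b) F) (k Q : GL (Fin a × Fin b) F),
      (k : Matrix (Fin a × Fin b) (Fin a × Fin b) F) =
        (α : Matrix (Fin a) (Fin a) F) ⊗ₖ (β : Matrix (Fin b) (Fin b) F) ∧
      ((α : Matrix (Fin a) (Fin a) F) ⊗ₖ (β : Matrix (Fin b) (Fin b) F))ᵀ * (J1 ⊗ₖ J2) *
        ((α : Matrix (Fin a) (Fin a) F) ⊗ₖ (β : Matrix (Fin b) (Fin b) F)) = J1 ⊗ₖ J2 ∧
      Cfsg.Geo.glReindex e x = Q * k * Q⁻¹ := by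
  obtain ⟨k, ⟨α, β, hk⟩, hy, hxQ⟩ := tsd_transfer_gl e P x g hmem
  have htm : Cfsg.Agent.Lib.Helper28.Transport.tmap e.symm P k = g⁻¹ * x * g := by
    rw [hy]
    rfl
  have hin : g⁻¹ * x * g ∈ Cfsg.spGL d F :=
    (Cfsg.spGL d F).mul_mem ((Cfsg.spGL d F).mul_mem ((Cfsg.spGL d F).inv_mem hg) hx) hg
  rw [← htm] at hin
  have hkS : k ∈ SpV J1 J2 := (ts_iso e P hc hT k).mpr hin
  have hkS' : (k : Matrix (Fin a × Fin b) (Fin a × Fin b) F)ᵀ * (J1 ⊗ₖ J2) *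
      (k : Matrix (Fin a × Fin b) (Fin a × Fin b) F) = J1 ⊗ₖ J2 := hkS
  refine ⟨α, β, k, _, hk, ?_, hxQ⟩
  rw [← hk]
  exact hkS'

/-- S5980. -/
theorem tsd_main {F : Type*} [Field F] [Fintype F] {p : ℕ} [Fact p.Prime] [CharP F p] {q : ℕ}
    (hq : Fintype.card F = q)
    (hodd : Odd q) (d : ℕ) (hd : 2 ≤ d) (a b : ℕ) (hab : 2 * d = a * b) (ha : Even a) (ha2 : 2 ≤ a) (hb : 3 ≤ b)
    (e : (Fin d ⊕ Fin d) ≃ Fin a × Fin b) (P : GL (Fin d ⊕ Fin d) F)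
    (f₁ : (Fin a → F) → (Fin a → F) → F) (f₂ : (Fin b → F) → (Fin b → F) → F)
    (hf₁ : Cfsg.Geo.IsSymplecticForm f₁) (hf₂ : Cfsg.Geo.IsSymmetricForm f₂)
    (hS : Cfsg.Geo.IsTensorFormStructure id (Cfsg.sympForm d F) f₁ f₂ e P)
    (r : ℕ) [Fact r.Prime]
    (hΩ : r ∣ (Cfsg.Geo.tensorProductSubgroup a b e P).relIndex (Cfsg.spGL d F)) :
    (∀ x ∈ Cfsg.spGL d F, (∃ z : F, ((x ^ r : GL (Fin d ⊕ Fin d) F) : Matrix (Fin d ⊕ Fin d) (Fin d ⊕ Fin d) F) = z • (1 : Matrix (Fin d ⊕ Fin d) (Fin d ⊕ Fin d) F)) →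
      (∀ z : F, (x : Matrix (Fin d ⊕ Fin d) (Fin d ⊕ Fin d) F) ≠ z • (1 : Matrix (Fin d ⊕ Fin d) (Fin d ⊕ Fin d) F)) →
      ∃ g ∈ Cfsg.spGL d F, g⁻¹ * x * g ∈ Cfsg.Geo.tensorProductSubgroup a b e P) ↔ (r = 2 ∧ a = 2) := by
  subst hq
  have hrp : r.Prime := Fact.out
  have hpp : p.Prime := Fact.out
  have C : Ctx (Cfsg.Geo.gramMatrix f₁) (Cfsg.Geo.gramMatrix f₂) := ts_ctx hodd f₁ f₂ hf₁ hf₂
  have h2F : (2 : F) ≠ 0 := C.two
  constructor
  · intro hall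
    have hAll : TsdAll d a b e P r := by
      intro x hx h1 h2
      obtain ⟨g, -, hg⟩ := hall x hx h1 h2
      exact ⟨g, hg⟩
    -- r ≠ p
    have hrne : r ≠ p := by
      rintro rfl
      exact tsdchar4_case_char d (by omega) a b ha2 hb e P hAll
    have hrq : ¬ r ∣ Fintype.card F := by
      obtain ⟨k, -, hk⟩ := FiniteField.card F p
      rw [hk]
      intro h
      exact hrne ((Nat.prime_dvd_prime_iff_eq hrp hpp).mp (hrp.dvd_of_dvd_pow h))
    have hr2 : r = 2 := by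
      by_contra hr2
      have hcard : r ∣ Nat.card (Cfsg.spGL d F) := hΩ.trans (Subgroup.relIndex_dvd_card _ _)
      obtain ⟨x, hx, hxr, hx1, hxrk⟩ := tsdexodd_lead_exists_odd d r hr2 hrq hcard
      have hxr' : ((x ^ r : GL (Fin d ⊕ Fin d) F) : Matrix (Fin d ⊕ Fin d) (Fin d ⊕ Fin d) F) =
          (1 : F) • (1 : Matrix (Fin d ⊕ Fin d) (Fin d ⊕ Fin d) F) := by
        rw [Units.val_pow_eq_pow_val, hxr, one_smul]
      have hns : ∀ z : F, (x : Matrix (Fin d ⊕ Fin d) (Fin d ⊕ Fin d) F) ≠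
          z • (1 : Matrix (Fin d ⊕ Fin d) (Fin d ⊕ Fin d) F) := by
        intro z hz
        have hzz := tsdmain_scalar_sq (by omega) x hx z hz
        have hzr : z ^ r = 1 := by
          have h3 := hxr
          rw [hz, smul_pow, one_pow] at h3
          have := congrFun (congrFun h3 (Sum.inl ⟨0, by omega⟩)) (Sum.inl ⟨0, by omega⟩)
          simpa using this
        obtain ⟨k, hk⟩ := hrp.odd_of_ne_two hr2
        have hz1 : z = 1 := by
          rw [hk, pow_succ, pow_mul, pow_two, hzz, one_pow, one_mul] at hzr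
          exact hzr
        rw [hz1, one_smul] at hz
        exact hx1 hz
      obtain ⟨g, hg, hmem⟩ := hall x hx ⟨1, hxr'⟩ hns
      obtain ⟨c, hc, hT'⟩ := hS
      have hT2 : ∀ x y : Fin a × Fin b → F,
          Cfsg.sympForm d F ((P : Matrix (Fin d ⊕ Fin d) (Fin d ⊕ Fin d) F) *ᵥ (x ∘ e))
            ((P : Matrix (Fin d ⊕ Fin d) (Fin d ⊕ Fin d) F) *ᵥ (y ∘ e)) =
            c * bf (JV (Cfsg.Geo.gramMatrix f₁) (Cfsg.Geo.gramMatrix f₂)) x y := by
        intro x y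
        rw [hT' x y, ts_fog]
        rfl
      obtain ⟨α, β, k, Q, hk, hkS, hxQ⟩ := tsd_transfer d a b e P _ _ hc hT2 x g hx hg hmem
      have hrk := td_inv_rank e x Q k hxQ 1
      rw [one_smul, one_smul, hk] at hrk
      have hkr := td_inv_pow e x Q k hxQ r 1 hxr'
      rw [one_smul, hk] at hkr
      have hk1 : (α : Matrix (Fin a) (Fin a) F) ⊗ₖ (β : Matrix (Fin b) (Fin b) F) ≠ 1 := by
        intro h
        apply hx1
        have := td_inv_scalar e x Q k hxQ 1 (by rw [hk, h, one_smul])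
        rwa [one_smul] at this
      have hJ1 : Cfsg.Geo.gramMatrix f₁ ≠ 0 := by
        intro h
        haveI : Nonempty (Fin a) := ⟨⟨0, by omega⟩⟩
        apply C.det1
        rw [h]
        exact Matrix.det_zero
      have := tsd_rank_odd h2F ha ha2 hb _ _ hJ1 C.sym C.det2 r hr2 hrq
        (α : Matrix (Fin a) (Fin a) F) (β : Matrix (Fin b) (Fin b) F) (td_det_ne_zero β) hkS hkr hk1
      omega
    subst hr2
    refine ⟨rfl, ?_⟩
    by_contra ha'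
    obtain ⟨a', ha''⟩ := ha
    exact tsdtwo4_case_two h2F d hd a b (by omega) hb e P hAll
  · rintro ⟨rfl, rfl⟩
    intro x hx ⟨z, hz⟩ hns
    rw [Units.val_pow_eq_pow_val] at hz
    have hx2in : x ^ 2 ∈ Cfsg.spGL d F := (Cfsg.spGL d F).pow_mem hx 2
    have hzz := tsdmain_scalar_sq (by omega) (x ^ 2) hx2in z (by rw [Units.val_pow_eq_pow_val, hz])
    have hdb : d = b := by omega
    have hz' : (z - 1) * (z + 1) = 0 := by linear_combination hzz
    rcases mul_eq_zero.mp hz' with h | h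
    · have hz1 : z = 1 := by linear_combination h
      rw [hz1, one_smul] at hz
      obtain ⟨j, hj⟩ := tsd_inv_rank_even h2F d x hx hz
      have hle : ((x : Matrix (Fin d ⊕ Fin d) (Fin d ⊕ Fin d) F) - 1).rank ≤
          Fintype.card (Fin d ⊕ Fin d) := Matrix.rank_le_card_width _
      simp only [Fintype.card_sum, Fintype.card_fin] at hle
      obtain ⟨y, hy, hyT, hy2, hyr⟩ := tsd_target_pos hodd d b e P f₁ f₂ hf₁ hf₂ hS j (by omega)
      obtain ⟨g, hg, hgx⟩ := tsd_conj_pos h2F d x y hx hy hz hy2 (by omega)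
      exact ⟨g, hg, by rw [hgx]; exact hyT⟩
    · have hz1 : z = -1 := by linear_combination h
      rw [hz1, neg_smul, one_smul] at hz
      obtain ⟨y, hy, hyT, hy2⟩ := tsd_target_neg hodd d b e P f₁ f₂ hf₁ hf₂ hS
      obtain ⟨g, hg, hgx⟩ := tsd_conj_neg hodd d x y hx hy hz hy2
      exact ⟨g, hg, by rw [hgx]; exact hyT⟩

end Cfsg.Agent.Lib.helper4.TSD
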