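import Cfsg.Agent.Lib.helper4.TSD.Defs
import Cfsg.Agent.Lib.helper7.TSDKRONGE
import Cfsg.Agent.Lib.helper4.TSD.OrthPar4
import Cfsg.Agent.Lib.Helper11.TSDSIM
import Cfsg.Agent.Lib.Helper11.TSDKRONONE

/-!
# Project TSD (S5980): the `r` odd, `r ≠ p` argument in the model (leader piece MR)

A Kronecker product `A ⊗ B` preserving `J1 ⊗ J2` (`J2` symmetric non-degenerate), of odd prime order `r ∤ q`, has
`rank (A ⊗ B - 1) > lcm(2, ord_r(q))`.
-/

set_option autoImplicit false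
set_option linter.unusedVariables false
set_option linter.unusedSectionVars false

namespace Cfsg.Agent.Lib.helper4.TSD

open Matrix
open scoped Kronecker
open Cfsg.Agent.Lib.Helper22.TD

variable {F : Type*} [Field F]

/-- cancel a non-zero left Kronecker factor. -/
theorem tsdm_kron_cancel {a b : ℕ} (J1 : Matrix (Fin a) (Fin a) F) (h1 : J1 ≠ 0)
    (M M' : Matrix (Fin b) (Fin b) F) (h : J1 ⊗ₖ M = J1 ⊗ₖ M') : M = M' := by
  have hex : ∃ i i', J1 i i' ≠ 0 := by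
    by_contra hcon
    push Not at hcon
    exact h1 (by ext i i'; exact hcon i i')
  obtain ⟨i, i', hi⟩ := hex
  ext j j'
  have := congrFun (congrFun h (i, j)) (i', j')
  simp only [Matrix.kroneckerMap_apply] at this
  exact mul_left_cancel₀ hi this

theorem tsdm_kron_form {a b : ℕ} (A J1 : Matrix (Fin a) (Fin a) F) (B J2 : Matrix (Fin b) (Fin b) F) :
    (A ⊗ₖ B)ᵀ * (J1 ⊗ₖ J2) * (A ⊗ₖ B) = (Aᵀ * J1 * A) ⊗ₖ (Bᵀ * J2 * B) := by
  rw [← Matrix.kroneckerMap_transpose, ← Matrix.mul_kronecker_mul, ← Matrix.mul_kronecker_mul]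

theorem tsdm_sim_pow {n : ℕ} (J B : Matrix (Fin n) (Fin n) F) (ν : F) (h : Bᵀ * J * B = ν • J) (k : ℕ) :
    (B ^ k)ᵀ * J * B ^ k = ν ^ k • J := by
  induction k with
  | zero => simp
  | succ k ih =>
    have hB : B ^ (k + 1) = B ^ k * B := pow_succ B k
    rw [hB, Matrix.transpose_mul]
    calc Bᵀ * (B ^ k)ᵀ * J * (B ^ k * B) = Bᵀ * ((B ^ k)ᵀ * J * B ^ k) * B := by
          simp only [Matrix.mul_assoc]
      _ = ν ^ (k + 1) • J := by
          rw [ih, Matrix.mul_smul, Matrix.smul_mul, h, smul_smul, ← pow_succ]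

/-- an orthogonal matrix of odd prime order `r ∤ q`: `lcm(2, ord_r q) ≤ rank (h - 1)`. -/
theorem tsdm_one [Fintype F] (h2 : (2 : F) ≠ 0) {b : ℕ} (J : Matrix (Fin b) (Fin b) F) (hJ : Jᵀ = J)
    (hdet : J.det ≠ 0) (r : ℕ) [Fact r.Prime] (hr2 : r ≠ 2) (hrq : ¬ r ∣ Fintype.card F)
    (h : Matrix (Fin b) (Fin b) F) (hh : hᵀ * J * h = J) (hhr : h ^ r = 1) (h1 : h ≠ 1) :
    Nat.lcm 2 (orderOf ((Fintype.card F : ℕ) : ZMod r)) ≤ (h - 1).rank := by
  have hrp : r.Prime := Fact.out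
  have hodd : Odd r := hrp.odd_of_ne_two hr2
  have he := tsdorthpar4_parity h2 J hJ hdet h hh r hodd hhr
  have hd := td_order_dvd_rank h r hhr hrq
  have hne : (h - 1).rank ≠ 0 := fun h0 => h1 (sub_eq_zero.mp (td_eq_zero_of_rank _ h0))
  exact Nat.le_of_dvd (Nat.pos_of_ne_zero hne) (Nat.lcm_dvd he.two_dvd hd)

theorem tsdm_onek [Fintype F] (h2 : (2 : F) ≠ 0) {a b : ℕ} (ha2 : 2 ≤ a) (J : Matrix (Fin b) (Fin b) F)
    (hJ : Jᵀ = J) (hdet : J.det ≠ 0) (r : ℕ) [Fact r.Prime] (hr2 : r ≠ 2) (hrq : ¬ r ∣ Fintype.card F)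
    (h : Matrix (Fin b) (Fin b) F) (hh : hᵀ * J * h = J) (hhr : h ^ r = 1) (h1 : h ≠ 1) :
    Nat.lcm 2 (orderOf ((Fintype.card F : ℕ) : ZMod r)) <
      ((1 : Matrix (Fin a) (Fin a) F) ⊗ₖ h - 1).rank := by
  have hc := tsdm_one h2 J hJ hdet r hr2 hrq h hh hhr h1
  have hne : (h - 1).rank ≠ 0 := fun h0 => h1 (sub_eq_zero.mp (td_eq_zero_of_rank _ h0))
  have hr : ((1 : Matrix (Fin a) (Fin a) F) ⊗ₖ h - 1).rank = a * (h - 1).rank := by
    have := td_one_kron_sub (a := a) h 1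
    rw [one_smul, one_smul] at this
    rw [this, td_rank_one_kron]
  have h3 : 2 * (h - 1).rank ≤ a * (h - 1).rank := Nat.mul_le_mul_right _ ha2
  omega

/-- MR. -/
theorem tsd_rank_odd [Fintype F] (h2 : (2 : F) ≠ 0) {a b : ℕ} (hae : Even a) (ha2 : 2 ≤ a) (hb : 3 ≤ b)
    (J1 : Matrix (Fin a) (Fin a) F) (J2 : Matrix (Fin b) (Fin b) F) (hJ1 : J1 ≠ 0) (hJ2 : J2ᵀ = J2)
    (hdet2 : J2.det ≠ 0) (r : ℕ) [Fact r.Prime] (hr2 : r ≠ 2) (hrq : ¬ r ∣ Fintype.card F)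
    (A : Matrix (Fin a) (Fin a) F) (B : Matrix (Fin b) (Fin b) F) (hB : B.det ≠ 0)
    (hS : (A ⊗ₖ B)ᵀ * (J1 ⊗ₖ J2) * (A ⊗ₖ B) = J1 ⊗ₖ J2)
    (hkr : (A ⊗ₖ B) ^ r = 1) (hk1 : A ⊗ₖ B ≠ 1) :
    Nat.lcm 2 (orderOf ((Fintype.card F : ℕ) : ZMod r)) < (A ⊗ₖ B - 1).rank := by
  have hrp : r.Prime := Fact.out
  have hJ20 : J2 ≠ 0 := by
    rintro rfl
    haveI : Nonempty (Fin b) := ⟨⟨0, by omega⟩⟩
    exact hdet2 Matrix.det_zero
  by_contra hcon
  rw [not_lt] at hcon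
  have hqu : IsUnit ((Fintype.card F : ℕ) : ZMod r) := by
    rw [ZMod.isUnit_iff_coprime, Nat.coprime_comm]
    exact (Nat.Prime.coprime_iff_not_dvd hrp).mpr hrq
  have hi0 : 0 < orderOf ((Fintype.card F : ℕ) : ZMod r) := hqu.isOfFinOrder.orderOf_pos
  by_cases hsm : (A ⊗ₖ B - 1).rank < b
  · -- small route
    have hsm' : (A ⊗ₖ B - (1 : F) • (1 : Matrix (Fin a × Fin b) (Fin a × Fin b) F)).rank < b := by
      rwa [one_smul]
    obtain ⟨c₀, hc₀⟩ := td_left_scalar (by omega) A B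
      (fun w hw => Matrix.eq_zero_of_mulVec_eq_zero hB hw) 1 hsm'
    have hK : A ⊗ₖ B = (1 : Matrix (Fin a) (Fin a) F) ⊗ₖ (c₀ • B) := by rw [hc₀, td_smul_one_kron]
    have hhr : (c₀ • B) ^ r = 1 := by
      apply td_one_kron_inj (a := a) (by omega)
      rw [← td_one_kron_pow, ← hK, hkr, Matrix.one_kronecker_one]
    have hh : (c₀ • B)ᵀ * J2 * (c₀ • B) = J2 := by
      apply tsdm_kron_cancel J1 hJ1
      have h3 := hS
      rw [hK, tsdm_kron_form, Matrix.transpose_one, Matrix.one_mul, Matrix.mul_one] at h3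
      exact h3
    have hne : c₀ • B ≠ 1 := by
      intro h
      apply hk1
      rw [hK, h, Matrix.one_kronecker_one]
    have := tsdm_onek h2 (a := a) ha2 J2 hJ2 hdet2 r hr2 hrq (c₀ • B) hh hhr hne
    rw [hK] at hcon
    omega
  · rw [not_lt] at hsm
    have hi2 : 2 ≤ orderOf ((Fintype.card F : ℕ) : ZMod r) := by
      by_contra h
      have h1 : orderOf ((Fintype.card F : ℕ) : ZMod r) = 1 := by omega
      rw [h1] at hcon
      simp at hcon
      omega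
    have hr1 : ¬ r ∣ Fintype.card F - 1 := by
      intro h
      have h1 : ((Fintype.card F : ℕ) : ZMod r) = 1 := by
        have : ((Fintype.card F : ℕ) : ZMod r) = ((1 : ℕ) : ZMod r) := by
          rw [ZMod.natCast_eq_natCast_iff]
          exact ((Nat.modEq_iff_dvd' Fintype.card_pos).mpr h).symm
        simpa using this
      rw [h1, orderOf_one] at hi2
      omega
    have hcop : Nat.Coprime (Fintype.card F - 1) r := by
      rw [Nat.coprime_comm]
      exact (Nat.Prime.coprime_iff_not_dvd hrp).mpr hr1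
    obtain ⟨s, -, hs⟩ := Nat.exists_mul_mod_eq_one_of_coprime hcop hrp.one_lt
    have hdiv := Nat.div_add_mod ((Fintype.card F - 1) * s) r
    rw [hs] at hdiv
    have hKN : (A ⊗ₖ B) ^ ((Fintype.card F - 1) * s) = A ⊗ₖ B := by
      rw [← hdiv, pow_add, pow_mul, hkr, one_pow, one_mul, pow_one]
    have hq1 : ∀ z : F, z ≠ 0 → z ^ ((Fintype.card F - 1) * s) = 1 := by
      intro z hz
      rw [pow_mul, FiniteField.pow_card_sub_one_eq_one z hz, one_pow]
    obtain ⟨N, hN⟩ : ∃ N, N = (Fintype.card F - 1) * s := ⟨_, rfl⟩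
    rw [← hN] at hKN hq1
    obtain ⟨μ, hμ0, hμ1, hμ2⟩ := tsd_sim J1 J2 hJ1 hJ20 A B hS
    have hkr' := hkr
    rw [td_kron_pow] at hkr'
    obtain ⟨c₀, hc0, hAr, hBr⟩ := td_kron_eq_smul (by omega) (by omega) (A ^ r) (B ^ r) 1 one_ne_zero
      (by rw [hkr', one_smul])
    have ht1r : (A ^ N) ^ r = 1 := by
      rw [← pow_mul, mul_comm, pow_mul, hAr, smul_pow, one_pow, hq1 c₀ hc0, one_smul]
    have ht2r : (B ^ N) ^ r = 1 := by
      rw [← pow_mul, mul_comm, pow_mul, hBr, smul_pow, one_pow, hq1 _ (one_div_ne_zero hc0), one_smul]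
    have ht2J : (B ^ N)ᵀ * J2 * B ^ N = J2 := by
      rw [tsdm_sim_pow J2 B μ⁻¹ hμ2, hq1 _ (inv_ne_zero hμ0), one_smul]
    have hK2 : A ⊗ₖ B = (A ^ N) ⊗ₖ (B ^ N) := by rw [← td_kron_pow, hKN]
    obtain ⟨T1, hT1⟩ : ∃ T1, T1 = A ^ N := ⟨_, rfl⟩
    obtain ⟨T2, hT2⟩ : ∃ T2, T2 = B ^ N := ⟨_, rfl⟩
    rw [← hT1] at ht1r hK2
    rw [← hT2] at ht2r ht2J hK2
    have hns : ∀ (n : ℕ) (T : Matrix (Fin n) (Fin n) F), 1 ≤ n → T ^ r = 1 → T ≠ 1 →
        ∀ z : F, T ≠ z • (1 : Matrix (Fin n) (Fin n) F) := by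
      intro n T hn hTr hT1 z hz
      have hzr : z ^ r = 1 := by
        rw [hz, smul_pow, one_pow] at hTr
        have := congrFun (congrFun hTr ⟨0, hn⟩) ⟨0, hn⟩
        simpa using this
      have hz0 : z ≠ 0 := by
        rintro rfl
        rw [zero_pow hrp.ne_zero] at hzr
        exact zero_ne_one hzr
      have hzq : z ^ (Fintype.card F - 1) = 1 := FiniteField.pow_card_sub_one_eq_one z hz0
      have := pow_gcd_eq_one.mpr ⟨hzr, hzq⟩
      rw [hcop.symm.gcd_eq_one, pow_one] at this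
      rw [this, one_smul] at hz
      exact hT1 hz
    have hdetne : ∀ (n : ℕ) (T : Matrix (Fin n) (Fin n) F), T ^ r = 1 → T.det ≠ 0 := by
      intro n T hTr h0
      have : T.det ^ r = 1 := by rw [← Matrix.det_pow, hTr, Matrix.det_one]
      rw [h0, zero_pow hrp.ne_zero] at this
      exact zero_ne_one this
    by_cases h1 : T1 = 1
    · have hT2ne : T2 ≠ 1 := by
        rintro rfl
        apply hk1
        rw [hK2, h1, Matrix.one_kronecker_one]
      have := tsdm_onek h2 (a := a) ha2 J2 hJ2 hdet2 r hr2 hrq T2 ht2J ht2r hT2ne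
      rw [hK2, h1] at hcon
      omega
    by_cases h2' : T2 = 1
    · have hrk := tsd_rank_kron_one (b := b) T1 1
      rw [one_smul, one_smul] at hrk
      have hd := td_order_dvd_rank T1 r ht1r hrq
      have hne : (T1 - 1).rank ≠ 0 := fun h0 => h1 (sub_eq_zero.mp (td_eq_zero_of_rank _ h0))
      have hle := Nat.le_of_dvd (Nat.pos_of_ne_zero hne) hd
      have hc2 : Nat.lcm 2 (orderOf ((Fintype.card F : ℕ) : ZMod r)) ≤
          2 * orderOf ((Fintype.card F : ℕ) : ZMod r) :=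
        Nat.le_of_dvd (by omega) (Nat.lcm_dvd (dvd_mul_right 2 _) (dvd_mul_left _ 2))
      rw [hK2, h2', hrk] at hcon
      have h3 : 3 * (T1 - 1).rank ≤ b * (T1 - 1).rank := Nat.mul_le_mul_right _ hb
      omega
    · have hge := tsd_kron_rank_ge T1 T2 (hdetne a T1 ht1r) (hdetne b T2 ht2r)
        (hns a T1 (by omega) ht1r h1) (hns b T2 (by omega) ht2r h2') 1
      rw [one_smul, ← hK2] at hge
      have hd := td_order_dvd_rank T1 r ht1r hrq
      have hne : (T1 - 1).rank ≠ 0 := fun h0 => h1 (sub_eq_zero.mp (td_eq_zero_of_rank _ h0))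
      have hle := Nat.le_of_dvd (Nat.pos_of_ne_zero hne) hd
      have hwa : (T1 - 1).rank ≤ a := Matrix.rank_le_width _
      have hc := tsdm_one h2 J2 hJ2 hdet2 r hr2 hrq T2 ht2J ht2r h2'
      have hwb : (T2 - 1).rank ≤ b := Matrix.rank_le_width _
      rcases Nat.even_or_odd (orderOf ((Fintype.card F : ℕ) : ZMod r)) with he | ho
      · have hci : Nat.lcm 2 (orderOf ((Fintype.card F : ℕ) : ZMod r)) ≤
            orderOf ((Fintype.card F : ℕ) : ZMod r) :=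
          Nat.le_of_dvd hi0 (Nat.lcm_dvd he.two_dvd dvd_rfl)
        omega
      · obtain ⟨a', ha'⟩ := hae
        obtain ⟨i', hi'⟩ := ho
        omega

end Cfsg.Agent.Lib.helper4.TSD
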